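import Groth.Prelude.Def_LiftSq
import Groth.Prelude.Def_FibCat2

set_option autoImplicit false
set_option backward.isDefEq.respectTransparency false

universe v₆ u₆ v₅ u₅ v₄ u₄ v₃ u₃ v₂ u₂ v u

open CategoryTheory Limits

namespace LiftSqA
open LiftSq

variable {C : Type u} [Category.{v} C]
  {𝒜 : BasedCategory.{v₂, u₂} C} {ℬ : BasedCategory.{v₃, u₃} C}
  {𝒳 : BasedCategory.{v₄, u₄} C} {𝒴 : BasedCategory.{v₅, u₅} C} {𝒴' : BasedCategory.{v₆, u₆} C}

/-- components of a based natural transformation compose componentwise -/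
theorem app_comp {F G H : 𝒜 ⥤ᵇ 𝒳} (α : F ⟶ G) (β : G ⟶ H) (a : 𝒜.obj) :
    (α ≫ β).toNatTrans.app a = α.toNatTrans.app a ≫ β.toNatTrans.app a := rfl

theorem app_of_eq {F G : 𝒜 ⥤ᵇ 𝒳} {α β : F ⟶ G} (h : α = β) (a : 𝒜.obj) :
    α.toNatTrans.app a = β.toNatTrans.app a := by rw [h]

theorem liftsUniquely_fpFst (j : 𝒜 ⥤ᵇ ℬ) (f : 𝒳 ⥤ᵇ 𝒴) (y : 𝒴' ⥤ᵇ 𝒴)
    (hf : LiftsUniquely j f) : LiftsUniquely j (FibCat.fpFst y f) := by
  intro sq
  let fe := FibCat.fpIso y f
  let sq' : Sq j f := ⟨BasedFunctor.comp sq.top (FibCat.fpSnd y f), BasedFunctor.comp sq.bot y,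
    { hom := BasedCategory.whiskerRight sq.iso.hom y ≫ BasedCategory.whiskerLeft sq.top fe.hom
      inv := BasedCategory.whiskerLeft sq.top fe.inv ≫ BasedCategory.whiskerRight sq.iso.inv y
      hom_inv_id := by
        apply BasedNatTrans.homCategory.ext; ext a
        change (y.toFunctor.map _ ≫ (sq.top.obj a).obj.iso.hom) ≫ ((sq.top.obj a).obj.iso.inv ≫ y.toFunctor.map _) = 𝟙 _
        simp only [Category.assoc, Iso.hom_inv_id_assoc, ← Functor.map_comp, ← app_comp, Iso.hom_inv_id]
        exact y.toFunctor.map_id _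
      inv_hom_id := by
        apply BasedNatTrans.homCategory.ext; ext a
        change ((sq.top.obj a).obj.iso.inv ≫ y.toFunctor.map _) ≫ (y.toFunctor.map _ ≫ (sq.top.obj a).obj.iso.hom) = 𝟙 _
        simp only [Category.assoc, ← Functor.map_comp_assoc, ← app_comp, Iso.inv_hom_id]
        change (sq.top.obj a).obj.iso.inv ≫ y.toFunctor.map (𝟙 _) ≫ (sq.top.obj a).obj.iso.hom = _
        rw [Functor.map_id, Category.id_comp, Iso.inv_hom_id] }⟩
  constructor
  · obtain ⟨d⟩ := (hf sq').1
    let L := FibCat.fpLift sq.bot d.fn d.isoBot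
    have hw : ∀ a : 𝒜.obj, y.toFunctor.map (sq.iso.hom.toNatTrans.app a) ≫ (sq.top.obj a).obj.iso.hom =
        d.isoBot.hom.toNatTrans.app (j.obj a) ≫ f.toFunctor.map (d.isoTop.hom.toNatTrans.app a) :=
      fun a => (app_of_eq d.w a).symm
    let isoT : BasedFunctor.comp j L ≅ sq.top := BasedNatIso.mkNatIso
      (NatIso.ofComponents
        (fun a => ObjectProperty.isoMk _ (CategoricalPullback.mkIso
          (((BasedNatTrans.forgetful _ _).mapIso sq.iso).app a)
          (((BasedNatTrans.forgetful _ _).mapIso d.isoTop).app a) (hw a)))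
        (fun {a b} g => by
          apply ObjectProperty.hom_ext; apply CategoricalPullback.hom_ext
          · exact sq.iso.hom.toNatTrans.naturality g
          · exact d.isoTop.hom.toNatTrans.naturality g))
      (fun a => by
        haveI : 𝒴'.p.IsHomLift (𝟙 (𝒜.p.obj a)) (sq.iso.hom.toNatTrans.app a) := sq.iso.hom.isHomLift' a
        exact IsHomLift.of_fac _ _ _
          (IsHomLift.domain_eq 𝒴'.p (𝟙 (𝒜.p.obj a)) (sq.iso.hom.toNatTrans.app a))
          (IsHomLift.codomain_eq 𝒴'.p (𝟙 (𝒜.p.obj a)) (sq.iso.hom.toNatTrans.app a))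
          (IsHomLift.fac 𝒴'.p (𝟙 (𝒜.p.obj a)) (sq.iso.hom.toNatTrans.app a)))
    refine ⟨⟨L, isoT, Iso.refl _, ?_⟩⟩
    apply BasedNatTrans.homCategory.ext; ext a
    exact Category.id_comp _
  · intro d d'
    let up : sq.Lift → sq'.Lift := fun e =>
      ⟨BasedFunctor.comp e.fn (FibCat.fpSnd y f),
        { hom := BasedCategory.whiskerRight e.isoTop.hom (FibCat.fpSnd y f)
          inv := BasedCategory.whiskerRight e.isoTop.inv (FibCat.fpSnd y f)
          hom_inv_id := by rw [← whiskerRight_comp', e.isoTop.hom_inv_id, whiskerRight_id']; rfl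
          inv_hom_id := by rw [← whiskerRight_comp', e.isoTop.inv_hom_id, whiskerRight_id'] },
        { hom := BasedCategory.whiskerRight e.isoBot.hom y ≫ BasedCategory.whiskerLeft e.fn fe.hom
          inv := BasedCategory.whiskerLeft e.fn fe.inv ≫ BasedCategory.whiskerRight e.isoBot.inv y
          hom_inv_id := by
            apply BasedNatTrans.homCategory.ext; ext a
            change (y.toFunctor.map _ ≫ (e.fn.obj a).obj.iso.hom) ≫ ((e.fn.obj a).obj.iso.inv ≫ y.toFunctor.map _) = 𝟙 _
            simp only [Category.assoc, Iso.hom_inv_id_assoc, ← Functor.map_comp, ← app_comp, Iso.hom_inv_id]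
            exact y.toFunctor.map_id _
          inv_hom_id := by
            apply BasedNatTrans.homCategory.ext; ext a
            change ((e.fn.obj a).obj.iso.inv ≫ y.toFunctor.map _) ≫ (y.toFunctor.map _ ≫ (e.fn.obj a).obj.iso.hom) = 𝟙 _
            simp only [Category.assoc, ← Functor.map_comp_assoc, ← app_comp, Iso.inv_hom_id]
            change (e.fn.obj a).obj.iso.inv ≫ y.toFunctor.map (𝟙 _) ≫ (e.fn.obj a).obj.iso.hom = _
            rw [Functor.map_id, Category.id_comp, Iso.inv_hom_id] },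
        by
          apply BasedNatTrans.homCategory.ext; ext a
          change (y.toFunctor.map (e.isoBot.hom.toNatTrans.app (j.obj a)) ≫ (e.fn.obj (j.obj a)).obj.iso.hom) ≫
            f.toFunctor.map (e.isoTop.hom.toNatTrans.app a).hom.snd =
            y.toFunctor.map (sq.iso.hom.toNatTrans.app a) ≫ (sq.top.obj a).obj.iso.hom
          have h1 : e.isoBot.hom.toNatTrans.app (j.obj a) ≫ (e.isoTop.hom.toNatTrans.app a).hom.fst =
              sq.iso.hom.toNatTrans.app a := app_of_eq e.w a
          have h2 : y.toFunctor.map (e.isoTop.hom.toNatTrans.app a).hom.fst ≫ (sq.top.obj a).obj.iso.hom =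
              (e.fn.obj (j.obj a)).obj.iso.hom ≫ f.toFunctor.map (e.isoTop.hom.toNatTrans.app a).hom.snd :=
            (e.isoTop.hom.toNatTrans.app a).hom.w
          rw [Category.assoc, ← h2, ← h1, Functor.map_comp, Category.assoc]⟩
    obtain ⟨u⟩ := (hf sq').2 (up d) (up d')
    let η : up d ⟶ up d' := u.default
    let a1 := fun b => d.isoBot.inv.toNatTrans.app b ≫ d'.isoBot.hom.toNatTrans.app b
    have hcond : ∀ b, y.toFunctor.map (a1 b) ≫ (d'.fn.obj b).obj.iso.hom =
        (d.fn.obj b).obj.iso.hom ≫ f.toFunctor.map (η.hom.toNatTrans.app b) := by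
      intro b
      have h : (y.toFunctor.map (d.isoBot.hom.toNatTrans.app b) ≫ (d.fn.obj b).obj.iso.hom) ≫
          f.toFunctor.map (η.hom.toNatTrans.app b) =
          y.toFunctor.map (d'.isoBot.hom.toNatTrans.app b) ≫ (d'.fn.obj b).obj.iso.hom := app_of_eq η.w_bot b
      show y.toFunctor.map (_ ≫ _) ≫ _ = _
      rw [Functor.map_comp, Category.assoc, ← h, Category.assoc, ← Functor.map_comp_assoc, ← app_comp, d.isoBot.inv_hom_id]
      show y.toFunctor.map (𝟙 _) ≫ _ ≫ _ = _
      rw [Functor.map_id, Category.id_comp]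
    let θn : d.fn ⟶ d'.fn :=
      { toNatTrans :=
          { app := fun b => ObjectProperty.homMk ⟨a1 b, η.hom.toNatTrans.app b, hcond b⟩
            naturality := fun b c g => by
              apply ObjectProperty.hom_ext; apply CategoricalPullback.hom_ext
              · exact (d.isoBot.inv ≫ d'.isoBot.hom).toNatTrans.naturality g
              · exact η.hom.toNatTrans.naturality g }
        isHomLift' := fun b => by
          haveI : 𝒴'.p.IsHomLift (𝟙 (ℬ.p.obj b)) ((d.isoBot.inv ≫ d'.isoBot.hom).toNatTrans.app b) :=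
            (d.isoBot.inv ≫ d'.isoBot.hom).isHomLift' b
          exact IsHomLift.of_fac _ _ _
            (IsHomLift.domain_eq 𝒴'.p (𝟙 (ℬ.p.obj b)) ((d.isoBot.inv ≫ d'.isoBot.hom).toNatTrans.app b))
            (IsHomLift.codomain_eq 𝒴'.p (𝟙 (ℬ.p.obj b)) ((d.isoBot.inv ≫ d'.isoBot.hom).toNatTrans.app b))
            (IsHomLift.fac 𝒴'.p (𝟙 (ℬ.p.obj b)) ((d.isoBot.inv ≫ d'.isoBot.hom).toNatTrans.app b)) }
    refine ⟨⟨⟨⟨θn, ?_, ?_⟩⟩, ?_⟩⟩
    · apply BasedNatTrans.homCategory.ext; ext a
      · have h1 : d.isoBot.hom.toNatTrans.app (j.obj a) ≫ (d.isoTop.hom.toNatTrans.app a).hom.fst =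
            sq.iso.hom.toNatTrans.app a := app_of_eq d.w a
        have h1' : d'.isoBot.hom.toNatTrans.app (j.obj a) ≫ (d'.isoTop.hom.toNatTrans.app a).hom.fst =
            sq.iso.hom.toNatTrans.app a := app_of_eq d'.w a
        show (_ ≫ _) ≫ (d'.isoTop.hom.toNatTrans.app a).hom.fst = (d.isoTop.hom.toNatTrans.app a).hom.fst
        rw [Category.assoc, h1', ← h1, ← Category.assoc, ← app_comp, d.isoBot.inv_hom_id]
        exact Category.id_comp _
      · exact app_of_eq η.w_top a
    · apply BasedNatTrans.homCategory.ext; ext b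
      show d.isoBot.hom.toNatTrans.app b ≫ (_ ≫ _) = _
      rw [← Category.assoc, ← app_comp, d.isoBot.hom_inv_id]
      exact Category.id_comp _
    · intro x
      have hfst : ∀ b, (x.hom.toNatTrans.app b).hom.fst = a1 b := by
        intro b
        have h : d.isoBot.hom.toNatTrans.app b ≫ (x.hom.toNatTrans.app b).hom.fst =
            d'.isoBot.hom.toNatTrans.app b := app_of_eq x.w_bot b
        show _ = _ ≫ _
        rw [← h, ← Category.assoc, ← app_comp, d.isoBot.inv_hom_id]
        exact (Category.id_comp _).symm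
      let xs : up d ⟶ up d' :=
        ⟨BasedCategory.whiskerRight x.hom (FibCat.fpSnd y f),
          by
            apply BasedNatTrans.homCategory.ext; ext a
            exact congrArg (fun t => t.hom.snd) (app_of_eq x.w_top a),
          by
            apply BasedNatTrans.homCategory.ext; ext b
            show (y.toFunctor.map (d.isoBot.hom.toNatTrans.app b) ≫ (d.fn.obj b).obj.iso.hom) ≫
              f.toFunctor.map (x.hom.toNatTrans.app b).hom.snd =
              y.toFunctor.map (d'.isoBot.hom.toNatTrans.app b) ≫ (d'.fn.obj b).obj.iso.hom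
            have h : d.isoBot.hom.toNatTrans.app b ≫ (x.hom.toNatTrans.app b).hom.fst =
                d'.isoBot.hom.toNatTrans.app b := app_of_eq x.w_bot b
            rw [Category.assoc, ← (x.hom.toNatTrans.app b).hom.w, ← Functor.map_comp_assoc, h]⟩
      have hxs : xs = η := u.uniq xs
      apply Sq.Lift.hom_ext
      apply BasedNatTrans.homCategory.ext; ext b
      · exact hfst b
      · exact app_of_eq (congrArg Sq.Lift.Hom.hom hxs) b

end LiftSqA
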