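import Groth.Prelude.Def_LiftSq

set_option autoImplicit false

universe v₆ u₆ v₅ u₅ v₄ u₄ v₃ u₃ v₂ u₂ v u

open CategoryTheory

namespace LiftSqA
open LiftSq

variable {C : Type u} [Category.{v} C]
  {𝒜 : BasedCategory.{v₂, u₂} C} {ℬ : BasedCategory.{v₃, u₃} C}
  {𝒳 : BasedCategory.{v₄, u₄} C} {𝒴 : BasedCategory.{v₅, u₅} C} {𝒵 : BasedCategory.{v₆, u₆} C}

/-- whiskering an isomorphism on the right -/
def wR {F G : 𝒜 ⥤ᵇ 𝒳} (α : F ≅ G) (H : 𝒳 ⥤ᵇ 𝒴) : BasedFunctor.comp F H ≅ BasedFunctor.comp G H where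
  hom := BasedCategory.whiskerRight α.hom H
  inv := BasedCategory.whiskerRight α.inv H
  hom_inv_id := by rw [← whiskerRight_comp', α.hom_inv_id, whiskerRight_id']
  inv_hom_id := by rw [← whiskerRight_comp', α.inv_hom_id, whiskerRight_id']

theorem whiskerRight_whiskerRight {F G : 𝒜 ⥤ᵇ 𝒳} (α : F ⟶ G) (H : 𝒳 ⥤ᵇ 𝒴) (K : 𝒴 ⥤ᵇ 𝒵) :
    BasedCategory.whiskerRight (BasedCategory.whiskerRight α H) K =
      BasedCategory.whiskerRight α (BasedFunctor.comp H K) := by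
  apply BasedNatTrans.homCategory.ext; ext; rfl

theorem whiskerLeft_whiskerRight {F G : ℬ ⥤ᵇ 𝒳} (j : 𝒜 ⥤ᵇ ℬ) (α : F ⟶ G) (H : 𝒳 ⥤ᵇ 𝒴) :
    BasedCategory.whiskerLeft j (BasedCategory.whiskerRight α H) =
      BasedCategory.whiskerRight (BasedCategory.whiskerLeft j α) H := by
  apply BasedNatTrans.homCategory.ext; ext; rfl

theorem paste (j : 𝒜 ⥤ᵇ ℬ) (f : 𝒳 ⥤ᵇ 𝒴) (g : 𝒴 ⥤ᵇ 𝒵) {P : ℬ ⥤ᵇ 𝒴} {Q : ℬ ⥤ᵇ 𝒳} {T : 𝒜 ⥤ᵇ 𝒳}
    {B : ℬ ⥤ᵇ 𝒵} (b1 : B ⟶ BasedFunctor.comp P g) (b2 : P ⟶ BasedFunctor.comp Q f)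
    (t1 : BasedFunctor.comp j P ⟶ BasedFunctor.comp T f) (t2 : BasedFunctor.comp j Q ⟶ T)
    (h2 : BasedCategory.whiskerLeft j b2 ≫ BasedCategory.whiskerRight t2 f = t1) :
    BasedCategory.whiskerLeft j (b1 ≫ BasedCategory.whiskerRight b2 g) ≫
        BasedCategory.whiskerRight t2 (BasedFunctor.comp f g) =
      BasedCategory.whiskerLeft j b1 ≫ BasedCategory.whiskerRight t1 g := by
  subst h2
  apply BasedNatTrans.homCategory.ext
  ext x
  change (_ ≫ _) ≫ g.toFunctor.map (f.toFunctor.map _) = _ ≫ g.toFunctor.map (_ ≫ _)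
  rw [g.toFunctor.map_comp, Category.assoc]
  rfl

theorem liftsUniquely_comp (j : 𝒜 ⥤ᵇ ℬ) (f : 𝒳 ⥤ᵇ 𝒴) (g : 𝒴 ⥤ᵇ 𝒵)
    (hf : LiftsUniquely j f) (hg : LiftsUniquely j g) : LiftsUniquely j (BasedFunctor.comp f g) := by
  intro sq
  let sq1 : Sq j g := ⟨BasedFunctor.comp sq.top f, sq.bot, sq.iso⟩
  constructor
  · obtain ⟨d1⟩ := (hg sq1).1
    let sq2 : Sq j f := ⟨sq.top, d1.fn, d1.isoTop⟩
    obtain ⟨d2⟩ := (hf sq2).1
    refine ⟨⟨d2.fn, d2.isoTop, d1.isoBot ≪≫ wR d2.isoBot g, ?_⟩⟩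
    have h2 : BasedCategory.whiskerLeft j d2.isoBot.hom ≫ BasedCategory.whiskerRight d2.isoTop.hom f =
        d1.isoTop.hom := d2.w
    have h1 : BasedCategory.whiskerLeft j d1.isoBot.hom ≫ BasedCategory.whiskerRight d1.isoTop.hom g =
        sq.iso.hom := d1.w
    exact (paste j f g d1.isoBot.hom d2.isoBot.hom d1.isoTop.hom d2.isoTop.hom h2).trans h1
  · intro d d'
    let down : sq.Lift → sq1.Lift := fun e =>
      ⟨BasedFunctor.comp e.fn f, wR e.isoTop f, e.isoBot, by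
        show BasedCategory.whiskerLeft j e.isoBot.hom ≫
          BasedCategory.whiskerRight (BasedCategory.whiskerRight e.isoTop.hom f) g = sq.iso.hom
        rw [whiskerRight_whiskerRight]; exact e.w⟩
    obtain ⟨u1⟩ := (hg sq1).2 (down d) (down d')
    obtain ⟨u1'⟩ := (hg sq1).2 (down d') (down d)
    obtain ⟨u2⟩ := (hg sq1).2 (down d) (down d)
    obtain ⟨u2'⟩ := (hg sq1).2 (down d') (down d')
    letI := u1; letI := u1'; letI := u2; letI := u2'
    let θ : down d ⟶ down d' := default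
    let θi : down d' ⟶ down d := default
    have e1 : θ.hom ≫ θi.hom = 𝟙 (down d).fn :=
      congrArg Sq.Lift.Hom.hom (Subsingleton.elim (θ ≫ θi) (𝟙 _))
    have e2 : θi.hom ≫ θ.hom = 𝟙 (down d').fn :=
      congrArg Sq.Lift.Hom.hom (Subsingleton.elim (θi ≫ θ) (𝟙 _))
    let sq2 : Sq j f := ⟨sq.top, BasedFunctor.comp d.fn f, wR d.isoTop f⟩
    let a : sq2.Lift := ⟨d.fn, d.isoTop, Iso.refl _, by
      show BasedCategory.whiskerLeft j (𝟙 (BasedFunctor.comp d.fn f)) ≫ BasedCategory.whiskerRight d.isoTop.hom f =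
        BasedCategory.whiskerRight d.isoTop.hom f
      rw [whiskerLeft_id']; exact Category.id_comp _⟩
    let b : sq2.Lift := ⟨d'.fn, d'.isoTop, ⟨θ.hom, θi.hom, e1, e2⟩, θ.w_top⟩
    obtain ⟨u⟩ := (hf sq2).2 a b
    letI := u
    let η : a ⟶ b := default
    have hη : BasedCategory.whiskerRight η.hom f = θ.hom := (Category.id_comp _).symm.trans η.w_bot
    refine ⟨⟨⟨⟨η.hom, η.w_top, ?_⟩⟩, ?_⟩⟩
    · rw [← whiskerRight_whiskerRight, hη]; exact θ.w_bot
    · intro x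
      let x1 : down d ⟶ down d' :=
        ⟨BasedCategory.whiskerRight x.hom f,
          by
            show BasedCategory.whiskerLeft j (BasedCategory.whiskerRight x.hom f) ≫
              BasedCategory.whiskerRight d'.isoTop.hom f = BasedCategory.whiskerRight d.isoTop.hom f
            rw [whiskerLeft_whiskerRight]
            exact (whiskerRight_comp' _ _ f).symm.trans (congrArg (fun t => BasedCategory.whiskerRight t f) x.w_top),
          by
            show d.isoBot.hom ≫ BasedCategory.whiskerRight (BasedCategory.whiskerRight x.hom f) g = _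
            rw [whiskerRight_whiskerRight]; exact x.w_bot⟩
      have hx1 : BasedCategory.whiskerRight x.hom f = θ.hom :=
        congrArg Sq.Lift.Hom.hom (Subsingleton.elim x1 θ)
      let x2 : a ⟶ b := ⟨x.hom, x.w_top, (Category.id_comp _).trans hx1⟩
      have hx2 : x2.hom = η.hom := congrArg Sq.Lift.Hom.hom (Subsingleton.elim x2 η)
      exact Sq.Lift.hom_ext hx2

end LiftSqA
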